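import Groth.Agent.Variety.K428.Reg
import Groth.Agent.Fga.MumInputs
import Groth.Agent.VarietyB.RegGen
import Groth.Agent.Dcoh.TensRestr
import Groth.Agent.S0038

/-!
# Regularity of an extension `0 → F(-1) → F → G → 0`

Mumford's argument: `surj_succ` (surjectivity of `H^0(F(j)) → H^0(G(j))` propagates when `G` is `j`-regular),
`vanish_ge_two`, `finrank_le`, `strict`, `vanish_one`.
-/

set_option autoImplicit false
universe u
open CategoryTheory CategoryTheory.Limits AlgebraicGeometry

namespace Groth.Agent.Variety.K871.RegExt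

open Groth.Agent.Fga.TwistGr Groth.Agent.Fga.HShift
open Groth.Agent.Sga67.SerreVB (tw)
open Groth.Agent.VarietyA.EulerLES

variable {k : Type u} [Field k] {n : ℕ}

theorem tw_x {F G : (CohB1.ProjSpace n k).Modules} (f : F ⟶ G) (i : Fin (n + 1)) (a : ℤ) :
    (tw n k a).map f ≫ (grF G).x i a = (grF F).x i a ≫ (tw n k (a + 1)).map f := by
  have h := (DCoh.tensorBi.map f).naturality (mulVar n k i a)
  rw [Dcoh.TensRestr.tensorBi_map_eq, Dcoh.TensRestr.tensorBi_map_eq] at h
  exact h.symm

/-- `H^q(F(a))`. -/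
noncomputable abbrev H (F : (CohB1.ProjSpace n k).Modules) (a : ℤ) (q : ℕ) : Type u :=
  Coh.HH (CohB1.ProjSpace n k) (CohB1.tensorMod F (Twist.twistProjSpace n k a)) q

/-- The map `H^q(F(a)) → H^q(G(a))`. -/
noncomputable abbrev mp {F G : (CohB1.ProjSpace n k).Modules} (f : F ⟶ G) (a : ℤ) (q : ℕ) :
    H F a q →ₗ[k] H G a q := mapA k ((tw n k a).map f) q

theorem mp_comp {F G K : (CohB1.ProjSpace n k).Modules} (f : F ⟶ G) (g : G ⟶ K) (a : ℤ) (q : ℕ) (x : H F a q) :
    mp (f ≫ g) a q x = mp g a q (mp f a q x) := by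
  change mapA k ((tw n k a).map (f ≫ g)) q x = _
  rw [Functor.map_comp, mapA_comp]
  rfl

theorem surj_succ {F G : (CohB1.ProjSpace n k).Modules} (hG : Coh.IsQCoh G) (f : F ⟶ G) {m : ℤ}
    (h : Curv2.IsMRegular k n G m) (hs : Function.Surjective (mp f m 0)) :
    Function.Surjective (mp f (m + 1) 0) := by
  intro t
  obtain ⟨s, hs'⟩ := VarietyB.RegGen.exists_sum_H0 hG h t
  choose s' hs'' using fun i => hs (s i)
  refine ⟨∑ i, (HHF (CohB1.ProjSpace n k) 0).map ((grF F).x i m) (s' i), ?_⟩
  have e1 : mp f (m + 1) 0 (∑ i, (HHF (CohB1.ProjSpace n k) 0).map ((grF F).x i m) (s' i)) =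
      ∑ i, (HHF (CohB1.ProjSpace n k) 0).map ((tw n k (m + 1)).map f)
        ((HHF (CohB1.ProjSpace n k) 0).map ((grF F).x i m) (s' i)) :=
    map_sum (mp f (m + 1) 0) _ _
  refine e1.trans (Eq.trans ?_ hs')
  refine Finset.sum_congr rfl fun i _ => ?_
  have e2 : (HHF (CohB1.ProjSpace n k) 0).map ((tw n k (m + 1)).map f)
        ((HHF (CohB1.ProjSpace n k) 0).map ((grF F).x i m) (s' i)) =
      (HHF (CohB1.ProjSpace n k) 0).map ((grF F).x i m ≫ (tw n k (m + 1)).map f) (s' i) :=
    ((congrArg (fun g => g (s' i))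
      (congrArg (fun g => (ConcreteCategory.hom g))
        ((HHF (CohB1.ProjSpace n k) 0).map_comp ((grF F).x i m) ((tw n k (m + 1)).map f)))).symm :)
  have e3 : (HHF (CohB1.ProjSpace n k) 0).map ((grF G).x i m)
        ((HHF (CohB1.ProjSpace n k) 0).map ((tw n k m).map f) (s' i)) =
      (HHF (CohB1.ProjSpace n k) 0).map ((tw n k m).map f ≫ (grF G).x i m) (s' i) :=
    ((congrArg (fun g => g (s' i))
      (congrArg (fun g => (ConcreteCategory.hom g))
        ((HHF (CohB1.ProjSpace n k) 0).map_comp ((tw n k m).map f) ((grF G).x i m)))).symm :)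
  rw [e2, ← tw_x]
  exact e3.symm.trans (congrArg _ (hs'' i))

/-- `(F ⊗ O(-1))(j) ≅ F(j - 1)`. -/
theorem nonempty_sh (F : (CohB1.ProjSpace n k).Modules) (j : ℤ) :
    Nonempty (CohB1.tensorMod (CohB1.tensorMod F (Twist.twistProjSpace n k (-1))) (Twist.twistProjSpace n k j) ≅
      CohB1.tensorMod F (Twist.twistProjSpace n k (j - 1))) := by
  obtain ⟨e⟩ := Gaga.H883.Serre.tw_tw n k (-1) j F
  rw [show (-1 : ℤ) + j = j - 1 by ring] at e
  exact ⟨e⟩

/-- `(F ⊗ O(-1))(j) ≅ F(j - 1)`. -/
noncomputable def sh (F : (CohB1.ProjSpace n k).Modules) (j : ℤ) :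
    CohB1.tensorMod (CohB1.tensorMod F (Twist.twistProjSpace n k (-1))) (Twist.twistProjSpace n k j) ≅
      CohB1.tensorMod F (Twist.twistProjSpace n k (j - 1)) := (nonempty_sh F j).some

/-- `H^q((F ⊗ O(-1))(j)) ≃ H^q(F(j - 1))`. -/
noncomputable def shH (F : (CohB1.ProjSpace n k).Modules) (j : ℤ) (q : ℕ) :
    H (CohB1.tensorMod F (Twist.twistProjSpace n k (-1))) j q ≃ₗ[k] H F (j - 1) q := equivA k (sh F j) q

theorem finite_H {F : (CohB1.ProjSpace n k).Modules} (hF : Coh.IsCoh F) (j : ℤ) (q : ℕ) :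
    Module.Finite k (H F j q) :=
  Groth.Agent.S0038.result n k _ (Gaga.H883.Serre.isCoh_tw n k hF j) q

theorem regular_ge {F : (CohB1.ProjSpace n k).Modules} (hF : Coh.IsCoh F) {m m' : ℤ}
    (h : Curv2.IsMRegular k n F m) (hm : m ≤ m') : Curv2.IsMRegular k n F m' := by
  induction m', hm using Int.leInduction with
  | base => exact h
  | succ a _ ih => exact Groth.Agent.S1642.result k n F hF a ih

section Main

variable {F : (CohB1.ProjSpace n k).Modules} (ι : CohB1.tensorMod F (Twist.twistProjSpace n k (-1)) ⟶ F) [Mono ι]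

/-- The sequence `F(-1) → F → G`. -/
noncomputable abbrev sq : ShortComplex (CohB1.ProjSpace n k).Modules :=
  ShortComplex.mk ι (cokernel.π ι) (cokernel.condition ι)

theorem sq_shortExact : (sq ι).ShortExact := ShortComplex.ShortExact.mk (ShortComplex.exact_cokernel ι)

theorem sqt (j : ℤ) : ((sq ι).map (tw n k j)).ShortExact :=
  Gaga.H883.Serre.shortExact_tw n k j (sq_shortExact ι)

theorem vanG {G : (CohB1.ProjSpace n k).Modules} (hG : Coh.IsCoh G) {m : ℤ} (h : Curv2.IsMRegular k n G m)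
    (q : ℕ) (hq : 1 ≤ q) (t : ℤ) (ht : m - q ≤ t) : Subsingleton (H G t q) := by
  refine K428.Reg.vanish hG.1 (regular_ge hG h (m' := t + q) (by omega)) q hq t (by ring)

/-- Injectivity of `H^q(F(-1)(j)) → H^q(F(j))`. -/
theorem injective_ι (j : ℤ) (q : ℕ) (h : Function.Surjective (mp (cokernel.π ι) j q)) :
    Function.Injective (mp ι j (q + 1)) := by
  refine (injective_iff_map_eq_zero _).2 fun x hx => ?_
  obtain ⟨y, rfl⟩ := (exactA₁ k _ (sqt ι j) q (q + 1) rfl x).1 hx
  obtain ⟨z, rfl⟩ := h y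
  exact (exactA₃ k _ (sqt ι j) q (q + 1) rfl _).2 ⟨z, rfl⟩

theorem surjective_π (j : ℤ) (q : ℕ) (h : Function.Injective (mp ι j (q + 1))) :
    Function.Surjective (mp (cokernel.π ι) j q) := by
  intro y
  refine (exactA₃ k _ (sqt ι j) q (q + 1) rfl y).1 ?_
  apply h
  exact ((exactA₁ k _ (sqt ι j) q (q + 1) rfl _).2 ⟨y, rfl⟩).trans (map_zero _).symm

theorem surjective_ι (j : ℤ) (q : ℕ) (h : Subsingleton (H (cokernel ι) j q)) :
    Function.Surjective (mp ι j q) := fun y =>
  (exactA₂ k _ (sqt ι j) q y).1 (h.elim _ _)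

/-- If `H^q(F(-1)(j+1)) → H^q(F(j+1))` is injective for all large `j`, then `H^q(F(j)) = 0`. -/
theorem vanish_of_inj (hF : Coh.IsCoh F) (q : ℕ) (hq : 1 ≤ q) (a : ℤ)
    (h : ∀ j : ℤ, a ≤ j → Function.Injective (mp ι (j + 1) q)) (j : ℤ) (hj : a ≤ j) :
    Subsingleton (H F j q) := by
  obtain ⟨r₀, hr⟩ := Fga.MumInputs.serre k n F hF
  have key : ∀ (d : ℕ) (j : ℤ), a ≤ j → r₀ ≤ j + d → Subsingleton (H F j q) := by
    intro d
    induction d with
    | zero => exact fun j hj h' => hr j (by omega) q hq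
    | succ d ih =>
      intro j hj h'
      have h1 := ih (j + 1) (by omega) (by push_cast at h'; omega)
      have h2 := (h j hj).subsingleton
      have h3 := (shH F (j + 1) q).symm.injective.subsingleton
      rwa [show j + 1 - 1 = j by ring] at h3
  exact key (r₀ - j).toNat j hj (by omega)

variable {m : ℤ} (hF : Coh.IsCoh F) (hG : Curv2.IsMRegular k n (cokernel ι) m)

include hF in
theorem isCoh_cok : Coh.IsCoh (cokernel ι) :=
  Sga67.CohBasic.isCoh_cokernel ι (Gaga.H883.Serre.isCoh_tw n k hF (-1)).1 hF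

include hF hG in
theorem vanish_ge_two (i : ℕ) (j : ℤ) (hi : 2 ≤ i) (hj : m - i ≤ j) : Subsingleton (H F j i) := by
  obtain ⟨q, rfl⟩ : ∃ q, i = q + 1 := ⟨i - 1, by omega⟩
  refine vanish_of_inj ι hF (q + 1) (by omega) (m - (q + 1 : ℕ)) (fun j hj => injective_ι ι _ _ ?_) j hj
  have h1 := vanG (isCoh_cok ι hF) hG q (by omega) (j + 1) (by push_cast at hj; omega)
  exact fun y => ⟨0, Subsingleton.elim _ _⟩

include hF hG in
theorem surj_one (j : ℤ) (hj : m - 1 ≤ j) : Function.Surjective (mp ι j 1) :=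
  surjective_ι ι j 1 (vanG (isCoh_cok ι hF) hG 1 le_rfl j (by push_cast; omega))

include hF hG in
theorem finrank_le (j : ℤ) (hj : m - 1 ≤ j) :
    Module.finrank k (H F j 1) ≤ Module.finrank k (H F (j - 1) 1) := by
  have := finite_H hF (j - 1) 1
  refine LinearMap.finrank_le_finrank_of_surjective (f := (mp ι j 1).comp (shH F j 1).symm.toLinearMap) ?_
  exact (surj_one ι hF hG j hj).comp (shH F j 1).symm.surjective

include hF hG in
theorem surj_zero (j : ℤ) (hj : m ≤ j) (hs : Function.Surjective (mp (cokernel.π ι) j 0)) (j' : ℤ) (hj' : j ≤ j') :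
    Function.Surjective (mp (cokernel.π ι) j' 0) := by
  induction j', hj' using Int.leInduction with
  | base => exact hs
  | succ a ha ih =>
    exact surj_succ (isCoh_cok ι hF).1 _
      (regular_ge (isCoh_cok ι hF) hG (m' := a) (by omega)) ih

include hF hG in
/-- Strict decrease of `h^1`. -/
theorem strict (j : ℤ) (hj : m - 1 ≤ j) :
    Subsingleton (H F j 1) ∨ Module.finrank k (H F (j + 1) 1) < Module.finrank k (H F j 1) := by
  by_contra hcon
  rw [not_or] at hcon
  refine hcon.1 ?_
  have f1 := finite_H hF (j + 1) 1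
  have f2 := finite_H hF (j + 1 - 1) 1
  have f3 : Module.Finite k (H (CohB1.tensorMod F (Twist.twistProjSpace n k (-1))) (j + 1) 1) :=
    finite_H (Gaga.H883.Serre.isCoh_tw n k hF (-1)) (j + 1) 1
  have e1 : Module.finrank k (H F (j + 1 - 1) 1) = Module.finrank k (H F j 1) := by
    rw [show j + 1 - 1 = j by ring]
  have e2 : Module.finrank k (H (CohB1.tensorMod F (Twist.twistProjSpace n k (-1))) (j + 1) 1) =
      Module.finrank k (H F (j + 1) 1) := by
    refine le_antisymm ?_ ?_
    · rw [(shH F (j + 1) 1).finrank_eq, e1]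
      exact not_lt.1 hcon.2
    · exact LinearMap.finrank_le_finrank_of_surjective (surj_one ι hF hG (j + 1) (by omega))
  have h2 : Function.Injective (mp ι (j + 1) (0 + 1)) :=
    (LinearMap.injective_iff_surjective_of_finrank_eq_finrank e2).2 (surj_one ι hF hG (j + 1) (by omega))
  have h3 := surj_zero ι hF hG (j + 1) (by omega) (surjective_π ι (j + 1) 0 h2)
  exact vanish_of_inj ι hF 1 le_rfl j (fun t ht => injective_ι ι _ 0 (h3 (t + 1) (by omega))) j le_rfl

include hF hG in
theorem vanish_succ (j : ℤ) (hj : m - 1 ≤ j) (h : Subsingleton (H F j 1)) (j' : ℤ) (hj' : j ≤ j') :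
    Subsingleton (H F j' 1) := by
  induction j', hj' using Int.leInduction with
  | base => exact h
  | succ a ha ih =>
    have h1 : Subsingleton (H F (a + 1 - 1) 1) := by rwa [show a + 1 - 1 = a by ring]
    exact ((surj_one ι hF hG (a + 1) (by omega)).comp (shH F (a + 1) 1).symm.surjective).subsingleton

include hF hG in
theorem vanish_one (j : ℤ) (hj : m - 1 + (Module.finrank k (H F (m - 1) 1) : ℤ) ≤ j) : Subsingleton (H F j 1) := by
  have key : ∀ d : ℕ, Subsingleton (H F (m - 1 + d) 1) ∨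
      Module.finrank k (H F (m - 1 + d) 1) + d ≤ Module.finrank k (H F (m - 1) 1) := by
    intro d
    induction d with
    | zero => right; rw [Nat.cast_zero, add_zero, add_zero]
    | succ d ih =>
      rcases ih with ih | ih
      · left
        exact vanish_succ ι hF hG (m - 1 + d) (by omega) ih _ (by push_cast; omega)
      · rcases strict ι hF hG (m - 1 + d) (by omega) with h | h
        · left
          exact vanish_succ ι hF hG (m - 1 + d) (by omega) h _ (by push_cast; omega)
        · right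
          rw [show m - 1 + ((d + 1 : ℕ) : ℤ) = m - 1 + d + 1 by push_cast; ring]
          omega
  have h0 : Subsingleton (H F (m - 1 + (Module.finrank k (H F (m - 1) 1) : ℤ)) 1) := by
    rcases key (Module.finrank k (H F (m - 1) 1)) with h | h
    · exact h
    · have := finite_H hF (m - 1 + (Module.finrank k (H F (m - 1) 1) : ℤ)) 1
      have h' : Module.finrank k (H F (m - 1 + (Module.finrank k (H F (m - 1) 1) : ℤ)) 1) = 0 := by omega
      exact Module.finrank_zero_iff.1 h'
  exact vanish_succ ι hF hG _ (by omega) h0 j hj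

include hF hG in
theorem regular : Curv2.IsMRegular k n F (m + Module.finrank k (H F (m - 1) 1)) := by
  intro i hi _
  rcases Nat.lt_or_ge i 2 with h | h
  · obtain rfl : i = 1 := by omega
    exact vanish_one ι hF hG _ (by push_cast; omega)
  · exact vanish_ge_two ι hF hG i _ h (by omega)

end Main

end Groth.Agent.Variety.K871.RegExt
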