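import Groth.Agent.Variety.K871.RegExt
import Groth.Agent.PerfB.TensInv
import Groth.Agent.S1647
import Groth.Agent.CurvesB.HZero

/-!
# The first step of the linear resolution of an `m`-regular module

* `exists_cover`: a globally generated module with finite `H^0` is a quotient of `O^b`, surjectively on `H^0`.
* `full_tw`, `faithful_tw`: twisting is fully faithful.
* `regular_of_epi`, `exists_epi`: `F` is `m`-regular iff it is a quotient of `O(-m)^b` with `(m+1)`-regular kernel.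
-/

set_option autoImplicit false
universe u
open CategoryTheory CategoryTheory.Limits AlgebraicGeometry

namespace Groth.Agent.Variety.K871.LinRes

open Groth.Agent.VarietyA.EulerLES Groth.Agent.Dcoh.FinLocFree

section Cover

variable {X : Scheme.{u}} (k : Type u) [Field k] [X.Over (Spec (CommRingCat.of k))]

theorem exists_sec {M : X.Modules} {b : ℕ} (s : Fin b → Γ(M, ⊤)) (i : Fin b) :
    ∃ e : Γ(FlatMod.freeMod X b, ⊤), (freeDesc s).app ⊤ e = s i :=
  ⟨unitSec (Sigma.ι (fun _ : Fin b => Coh.structureModule X) i), freeSec_freeDesc s i⟩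

theorem exists_cover {M : X.Modules} (hM : Curv2.IsGloballyGenerated M) [Module.Finite k (Coh.HH X M 0)] :
    ∃ (b : ℕ) (p : FlatMod.freeMod X b ⟶ M), Epi p ∧ Function.Surjective (mapA k p 0) := by
  let B := Module.finBasis k (Coh.HH X M 0)
  let s : Fin (Module.finrank k (Coh.HH X M 0)) → Γ(M, ⊤) := fun i => CurvesB.HZero.equivAdd M (B i)
  let p := freeDesc s
  have hs : Function.Surjective (mapA k p 0) := by
    rw [← LinearMap.range_eq_top, eq_top_iff, ← B.span_eq, Submodule.span_le]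
    rintro _ ⟨i, rfl⟩
    obtain ⟨e, he⟩ := exists_sec s i
    refine ⟨(CurvesB.HZero.equivAdd _).symm e, (CurvesB.HZero.equivAdd M).injective ?_⟩
    refine (CurvesB.HZero.equivAdd_map p _).trans ?_
    rw [AddEquiv.apply_symm_apply]
    exact he
  refine ⟨_, p, ⟨fun {Z} u v huv => ?_⟩, hs⟩
  have h3 : ∀ t : Γ(M, ⊤), u.app ⊤ t = v.app ⊤ t := fun t => by
    obtain ⟨x, hx⟩ := hs ((CurvesB.HZero.equivAdd M).symm t)
    have h4 : p.app ⊤ (CurvesB.HZero.equivAdd _ x) = t := by
      rw [← CurvesB.HZero.equivAdd_map]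
      refine (congrArg (CurvesB.HZero.equivAdd M) hx).trans ?_
      rw [AddEquiv.apply_symm_apply]
    rw [← h4]
    exact congrArg (fun φ : FlatMod.freeMod X _ ⟶ Z => Scheme.Modules.Hom.app φ ⊤ (CurvesB.HZero.equivAdd _ x)) huv
  obtain ⟨ι, q, hq⟩ := hM
  refine (cancel_epi q).mp (VarietyB.GGStalk.free_hom_ext fun i => ?_)
  exact h3 (Scheme.Modules.Hom.app (M := VarietyB.GGStalk.fr X ι) (N := M) q ⊤ (VarietyB.GGStalk.frSec i))

end Cover

section Tw

variable {X : Scheme.{u}}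

/-- The two models of `- ⊗ N`. -/
noncomputable def twIso (N : X.Modules) : CohqB.SerTw.tw N ≅ DCoh.tensorRightMod N :=
  NatIso.ofComponents (fun _ => Iso.refl _) fun {M M'} f => by
    refine (Category.comp_id _).trans (Eq.trans ?_ (Category.id_comp _).symm)
    exact (Dcoh.TensRestr.tensorBi_map_eq f N).symm

theorem isEquivalence {L L' : X.Modules} (e : CohB1.tensorMod L L' ≅ Coh.structureModule X)
    (e' : CohB1.tensorMod L' L ≅ Coh.structureModule X) : (DCoh.tensorRightMod L).IsEquivalence :=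
  Functor.IsEquivalence.mk' (DCoh.tensorRightMod L') (PerfB.TensInv.tensorInvIso e).symm
    (PerfB.TensInv.tensorInvIso e')

end Tw

section Proj

variable {k : Type u} [Field k] {n : ℕ}

open Groth.Agent.Sga67.SerreVB (tw sumO)

theorem isEquivalence_twist (m : ℤ) : (tw n k m).IsEquivalence := by
  obtain ⟨a⟩ := Gaga.H883.Serre.O_mul n k m (-m)
  obtain ⟨b⟩ := Gaga.H883.Serre.O_mul n k (-m) m
  obtain ⟨z⟩ := Gaga.H883.Serre.O_zero n k
  have h := isEquivalence (a ≪≫ eqToIso (by rw [add_neg_cancel]) ≪≫ z)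
    (b ≪≫ eqToIso (by rw [neg_add_cancel]) ≪≫ z)
  exact Functor.isEquivalence_of_iso (twIso _).symm

attribute [local instance] Abelian.hasFiniteBiproducts

/-- `O(d)^b` as a coproduct. -/
noncomputable abbrev cop (k : Type u) [Field k] (n b : ℕ) (d : ℤ) : (CohB1.ProjSpace n k).Modules :=
  ∐ fun _ : Fin b => Twist.twistProjSpace n k d

theorem nonempty_tw_cop (b : ℕ) (d m : ℤ) :
    Nonempty ((tw n k m).obj (cop k n b d) ≅ (tw n k (d + m)).obj (FlatMod.freeMod (CohB1.ProjSpace n k) b)) := by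
  obtain ⟨e₁⟩ := Sga67.SerreVB.nonempty_tw_sumO n k b d m
  obtain ⟨e₂⟩ := Sga67.SerreVB.nonempty_tw_sumO n k b 0 (d + m)
  obtain ⟨e₃⟩ := Sga67.SerreVB.nonempty_freeMod_iso n k b
  rw [zero_add] at e₂
  exact ⟨(tw n k m).mapIso (biproduct.isoCoproduct _).symm ≪≫ e₁ ≪≫ e₂.symm ≪≫ (tw n k (d + m)).mapIso e₃.symm⟩

theorem nonempty_tw_cop_self (b : ℕ) (m : ℤ) :
    Nonempty ((tw n k m).obj (cop k n b (-m)) ≅ FlatMod.freeMod (CohB1.ProjSpace n k) b) := by
  obtain ⟨e⟩ := nonempty_tw_cop (k := k) (n := n) b (-m) m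
  obtain ⟨e'⟩ := Gaga.H883.Serre.tw_zero n k (FlatMod.freeMod (CohB1.ProjSpace n k) b)
  rw [neg_add_cancel] at e
  exact ⟨e ≪≫ e'⟩

theorem isCoh_cop (b : ℕ) (d : ℤ) : Coh.IsCoh (cop k n b d) :=
  Sga67.CohBasic.isCoh_of_iso (biproduct.isoCoproduct _) (Gaga.H883.Serre.isCoh_sumO n k b d)

theorem vanish_cop (b : ℕ) (d m : ℤ) (q : ℕ) (hq : 1 ≤ q) (h : -(q : ℤ) ≤ d + m) :
    Subsingleton (RegExt.H (cop k n b d) m q) := by
  obtain ⟨e⟩ := nonempty_tw_cop (k := k) (n := n) b d m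
  exact Gaga.H883.Serre.HH_congr e.symm q (Fga.MumInputs.free_vanish k n b q hq (d + m) h)

theorem kerSeq_shortExact {F G : (CohB1.ProjSpace n k).Modules} (φ : F ⟶ G) [Epi φ] :
    (ShortComplex.mk (kernel.ι φ) φ (kernel.condition φ)).ShortExact :=
  ShortComplex.ShortExact.mk (ShortComplex.exact_kernel φ)

theorem left_of_surj {X : Scheme.{u}} {S : ShortComplex X.Modules} (hS : S.ShortExact) (q : ℕ)
    (h2 : Subsingleton (Coh.HH X S.X₂ (q + 1))) (h3 : Function.Surjective (mapΓ S.g q)) :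
    Subsingleton (Coh.HH X S.X₁ (q + 1)) := by
  have key : ∀ x : Coh.HH X S.X₁ (q + 1), x = 0 := fun x => by
    obtain ⟨y, rfl⟩ := (exact₁ S hS q (q + 1) rfl x).1 (Subsingleton.elim _ _)
    obtain ⟨z, rfl⟩ := h3 y
    exact (exact₃ S hS q (q + 1) rfl _).2 ⟨z, rfl⟩
  exact ⟨fun a b => (key a).trans (key b).symm⟩

variable {F : (CohB1.ProjSpace n k).Modules} (hF : Coh.IsCoh F) (m : ℤ)

include hF in
theorem regular_of_epi {b : ℕ} (φ : cop k n b (-m) ⟶ F) [Epi φ] (h : Curv2.IsMRegular k n (kernel φ) (m + 1)) :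
    Curv2.IsMRegular k n F m := by
  intro i hi _
  have := Gaga.H883.Serre.isNoetherian_projSpace n k
  have hK : Coh.IsCoh (kernel φ) := Sga67.CohBasic.isCoh_kernel φ (isCoh_cop b (-m)) hF.1
  refine K428.Reg.right (Gaga.H883.Serre.shortExact_tw n k (m - i) (kerSeq_shortExact φ)) i
    (vanish_cop b (-m) (m - i) i hi (by omega)) ?_
  exact K428.Reg.vanish hK.1 h (i + 1) (by omega) (m - i) (by push_cast; ring)

include hF in
theorem exists_epi (h : Curv2.IsMRegular k n F m) :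
    ∃ (b : ℕ) (φ : cop k n b (-m) ⟶ F), Epi φ ∧ Curv2.IsMRegular k n (kernel φ) (m + 1) := by
  have hM := Groth.Agent.S1647.result k n F hF m h
  have := RegExt.finite_H hF m 0
  obtain ⟨b, p, hp, hs⟩ := exists_cover k hM
  obtain ⟨e⟩ := nonempty_tw_cop_self (k := k) (n := n) b m
  have := isEquivalence_twist (k := k) (n := n) m
  let φ : cop k n b (-m) ⟶ F := (tw n k m).preimage (e.hom ≫ p)
  have hφ : (tw n k m).map φ = e.hom ≫ p := (tw n k m).map_preimage _
  have he : Epi ((tw n k m).map φ) := by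
    rw [hφ]
    have hp' : Epi p := hp
    exact epi_comp' (inferInstanceAs (Epi e.hom)) hp'
  have he' : Epi φ := (tw n k m).epi_of_epi_map he
  refine ⟨b, φ, he', fun i hi hin => ?_⟩
  obtain ⟨q, rfl⟩ : ∃ q, i = q + 1 := ⟨i - 1, by omega⟩
  refine left_of_surj (Gaga.H883.Serre.shortExact_tw n k _ (kerSeq_shortExact φ)) q
    (vanish_cop b (-m) _ (q + 1) (by omega) (by push_cast; omega)) ?_
  rcases Nat.eq_zero_or_pos q with rfl | hq
  · have key : ∀ a : ℤ, a = m → Function.Surjective (mapΓ ((tw n k a).map φ) 0) := by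
      rintro a rfl
      intro y
      obtain ⟨x, hx⟩ := hs y
      refine ⟨equivΓ e.symm 0 x, ?_⟩
      have h1 : mapΓ ((tw n k a).map φ) 0 = (mapΓ p 0).comp (mapΓ e.hom 0) := by
        rw [← mapΓ_comp]
        exact congrArg (fun f => mapΓ f 0) hφ
      refine (LinearMap.congr_fun h1 _).trans (Eq.trans ?_ hx)
      exact congrArg (mapΓ p 0) ((equivΓ e 0).apply_symm_apply x)
    exact key _ (by push_cast; ring)
  · have h1 := K428.Reg.vanish hF.1 h q hq (m + 1 - ((q + 1 : ℕ) : ℤ)) (by push_cast; ring)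
    exact fun y => ⟨0, h1.elim _ _⟩

end Proj

end Groth.Agent.Variety.K871.LinRes
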